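import Cfsg.Agent.Lib.KnownA.ON.PJ.F0
import Cfsg.Agent.Lib.KnownA.ON.PJ.F1
import Cfsg.Agent.Lib.KnownA.ON.PJ.F2
import Cfsg.Agent.Lib.KnownA.ON.PJ.F3
import Cfsg.Agent.Lib.KnownA.ON.PJ.F4

/-! The assembled certificate. -/

set_option autoImplicit false
set_option maxRecDepth 100000

namespace CfsgLib.KnownA.ONData.PJ

open CfsgLib.InvChar.Coset CfsgLib.KnownA.CosetInv

theorem chk_rows0 : cert.chkRows table live fin 3000 0 = true := by decide +kernel

theorem chk_rows1 : cert.chkRows table live fin 3000 3000 = true := by decide +kernel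

theorem chk_rows2 : cert.chkRows table live fin 3000 6000 = true := by decide +kernel

theorem chk_rows3 : cert.chkRows table live fin 3000 9000 = true := by decide +kernel

theorem chk_rows4 : cert.chkRows table live fin 3000 12000 = true := by decide +kernel

theorem chk_rows5 : cert.chkRows table live fin 3000 15000 = true := by decide +kernel

theorem chk_rows6 : cert.chkRows table live fin 3000 18000 = true := by decide +kernel

theorem chk_rows7 : cert.chkRows table live fin 3000 21000 = true := by decide +kernel

theorem chk_rows8 : cert.chkRows table live fin 1080 24000 = true := by decide +kernel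

theorem facts_ok : ∀ j < 312, cert.chkRun 128 (j * 128) (cert.just.get j) = true := by
  intro j hj
  rcases Nat.lt_or_ge j 64 with h0 | h0
  · obtain ⟨i, rfl⟩ : ∃ i, j = 0 + i := ⟨j - 0, by omega⟩
    exact cert.chkBlocks_get 64 0 chk_facts0 i (by omega)
  rcases Nat.lt_or_ge j 128 with h1 | h1
  · obtain ⟨i, rfl⟩ : ∃ i, j = 64 + i := ⟨j - 64, by omega⟩
    exact cert.chkBlocks_get 64 64 chk_facts1 i (by omega)
  rcases Nat.lt_or_ge j 192 with h2 | h2
  · obtain ⟨i, rfl⟩ : ∃ i, j = 128 + i := ⟨j - 128, by omega⟩
    exact cert.chkBlocks_get 64 128 chk_facts2 i (by omega)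
  rcases Nat.lt_or_ge j 256 with h3 | h3
  · obtain ⟨i, rfl⟩ : ∃ i, j = 192 + i := ⟨j - 192, by omega⟩
    exact cert.chkBlocks_get 64 192 chk_facts3 i (by omega)
  rcases Nat.lt_or_ge j 312 with h4 | h4
  · obtain ⟨i, rfl⟩ : ∃ i, j = 256 + i := ⟨j - 256, by omega⟩
    exact cert.chkBlocks_get 56 256 chk_facts4 i (by omega)
  omega

theorem covered : CosetInv.Covered cert table live fin where
  hn := by decide +kernel
  ivlt := by decide +kernel
  facts := ⟨312, by decide +kernel, facts_ok⟩
  rows := by
    intro i hi
    have hi : i < 25080 := hi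
    rcases Nat.lt_or_ge i 3000 with h0 | h0
    · exact cert.chkRows_get 3000 0 chk_rows0 i (by omega) (by omega)
    rcases Nat.lt_or_ge i 6000 with h1 | h1
    · exact cert.chkRows_get 3000 3000 chk_rows1 i (by omega) (by omega)
    rcases Nat.lt_or_ge i 9000 with h2 | h2
    · exact cert.chkRows_get 3000 6000 chk_rows2 i (by omega) (by omega)
    rcases Nat.lt_or_ge i 12000 with h3 | h3
    · exact cert.chkRows_get 3000 9000 chk_rows3 i (by omega) (by omega)
    rcases Nat.lt_or_ge i 15000 with h4 | h4
    · exact cert.chkRows_get 3000 12000 chk_rows4 i (by omega) (by omega)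
    rcases Nat.lt_or_ge i 18000 with h5 | h5
    · exact cert.chkRows_get 3000 15000 chk_rows5 i (by omega) (by omega)
    rcases Nat.lt_or_ge i 21000 with h6 | h6
    · exact cert.chkRows_get 3000 18000 chk_rows6 i (by omega) (by omega)
    rcases Nat.lt_or_ge i 24000 with h7 | h7
    · exact cert.chkRows_get 3000 21000 chk_rows7 i (by omega) (by omega)
    rcases Nat.lt_or_ge i 25080 with h8 | h8
    · exact cert.chkRows_get 1080 24000 chk_rows8 i (by omega) (by omega)
    omega
  root := by decide +kernel

end CfsgLib.KnownA.ONData.PJ
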